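import Cfsg.Agent.H970.K4.AltTools
import Cfsg.Agent.CharactersDeep.ModCongr
import Cfsg.Agent.Blocks.ExistsModular
import Cfsg.Agent.Blocks.PPart

/-!
# Odd degree characters of symmetric groups (helper970, team K4)

* `parity` : the degree of the character with beta-set `β` has the parity of its value on a cycle of length `2 ^ k`;
* `FM_tv` : the trivial character;
* `FM_hb` : adding a hook of length `N = 2 ^ k` to the trivial partition of `r < N`;
* `good5_large` : `Good5 A_n` for `n ≥ 16`.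
-/

set_option autoImplicit false

namespace Cfsg.Agent.H970.K4

open Finset Cfsg Cfsg.Agent.H614 Cfsg.Agent.Characters.Core Cfsg.Agent.H600.AltDeg
open Cfsg.Agent.H601.K4
open scoped ComplexConjugate

theorem parity {n m k : ℕ} {β : Fin m → ℕ} (hβ : StrictMono β) (hs : ∑ i, β i = n + ∑ i : Fin m, (i : ℕ))
    (hk : 2 ^ k ≤ n) (hk0 : k ≠ 0) :
    (2 : ℤ) ∣ FM (Multiset.replicate n 1) β - FM (2 ^ k ::ₘ Multiset.replicate (n - 2 ^ k) 1) β := by
  have h2k : 2 ≤ 2 ^ k := by
    calc 2 = 2 ^ 1 := rfl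
      _ ≤ 2 ^ k := Nat.pow_le_pow_right (by norm_num) (by omega)
  obtain ⟨M, hM⟩ := Cfsg.Agent.Blocks.ExistsModular.exists_isPModular Nat.prime_two
  have : Fact (Nat.Prime 2) := ⟨Nat.prime_two⟩
  obtain ⟨g, hg⟩ := (Equiv.Perm.exists_with_cycleType_iff (α := Fin n) (m := {2 ^ k})).2
    ⟨by rw [Fintype.card_fin]; simpa using hk, by simpa using h2k⟩
  have hs' : ∑ i, β i = Fintype.card (Fin n) + ∑ i : Fin m, (i : ℕ) := by rw [Fintype.card_fin]; exact hs
  have hirr := isIrr_ch (α := Fin n) hβ hs'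
  have hty : ty g = 2 ^ k ::ₘ Multiset.replicate (n - 2 ^ k) 1 := by
    rw [ty_eq, hg, Fintype.card_fin]
    simp
  have hord : orderOf g = 2 ^ k := by
    rw [← Equiv.Perm.lcm_cycleType, hg]
    simp
  have h1 := CharactersDeep.ModCongr.memLocalIdeal_character_sub hM hirr g g
    (Cfsg.Agent.Blocks.PPart.isPPart_of_isPGroup ⟨k, hord⟩)
  rw [inv_mul_cancel, ch_apply, ch_apply, hty, ty_one, Fintype.card_fin] at h1
  have h2 := (Cfsg.Agent.Blocks.LocalRing.memLocalIdeal_intCast_iff hM
    (FM (2 ^ k ::ₘ Multiset.replicate (n - 2 ^ k) 1) β - FM (Multiset.replicate n 1) β)).1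
      (by push_cast; exact h1)
  rw [← dvd_neg]
  simpa using h2

theorem charDegree_ch {n m : ℕ} {β : Fin m → ℕ} (hβ : StrictMono β)
    (hs : ∑ i, β i = n + ∑ i : Fin m, (i : ℕ)) :
    charDegree (ch (Fin n) β) = Int.natAbs (FM (Multiset.replicate n 1) β) := by
  have h := FM_ones_pos n hβ hs
  apply charDegree_eq_of
  rw [ch_apply, ty_one, Fintype.card_fin]
  have h1 : ((Int.natAbs (FM (Multiset.replicate n 1) β) : ℕ) : ℤ) = FM (Multiset.replicate n 1) β :=
    Int.natAbs_of_nonneg h.le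
  calc (FM (Multiset.replicate n 1) β : ℂ) = (((Int.natAbs (FM (Multiset.replicate n 1) β) : ℕ) : ℤ) : ℂ) := by rw [h1]
    _ = _ := Int.cast_natCast _

/-- the beta-set of the trivial partition of `r` -/
def tv (r : ℕ) : Fin 11 → ℕ := fun i => if (i : ℕ) = 10 then r + 10 else i

theorem tv_ten (r : ℕ) {i : Fin 11} (h : (i : ℕ) = 10) : tv r i = r + 10 := by simp [tv, h]

theorem tv_lt (r : ℕ) {i : Fin 11} (h : (i : ℕ) ≠ 10) : tv r i = i := by simp [tv, h]

theorem tv_strictMono (r : ℕ) : StrictMono (tv r) := by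
  intro i j hij
  have h1 : (i : ℕ) < j := hij
  have h2 := j.2
  rw [tv_lt r (by omega)]
  by_cases hj : (j : ℕ) = 10
  · rw [tv_ten r hj]; omega
  · rw [tv_lt r hj]; exact h1

theorem sum_tv (r : ℕ) : ∑ i, tv r i = r + ∑ i : Fin 11, (i : ℕ) := by
  simp [tv, Fin.sum_univ_succ]
  omega

theorem FM_tv (r : ℕ) : FM (Multiset.replicate r 1) (tv r) = 1 := by
  induction r with
  | zero =>
    have h : tv 0 = fun i : Fin 11 => (i : ℕ) := by
      funext i
      by_cases hi : (i : ℕ) = 10
      · rw [tv_ten 0 hi]; omega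
      · rw [tv_lt 0 hi]
    have h1 : FM (Multiset.replicate 0 1) (tv 0) = vac (tv 0) := rfl
    rw [h1, h, vac_eq_pair]
    exact pair_self_of_strictMono (fun i j h => h)
  | succ r ih =>
    rw [Multiset.replicate_succ, FM_cons, Finset.sum_eq_single (10 : Fin 11)]
    · rw [if_pos (by rw [tv_ten _ (by rfl)]; omega)]
      have h : dn (tv (r + 1)) 10 1 = tv r := by
        funext i
        by_cases hi : i = 10
        · subst hi
          rw [dn_self, tv_ten _ (by rfl), tv_ten _ (by rfl)]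
          omega
        · rw [dn_ne _ _ hi]
          have hi' : (i : ℕ) ≠ 10 := fun h => hi (Fin.ext h)
          rw [tv_lt _ hi', tv_lt _ hi']
      rw [h, ih]
    · intro j _ hj
      have hj' : (j : ℕ) ≠ 10 := fun h => hj (Fin.ext h)
      split_ifs with h1
      · rw [tv_lt _ hj'] at h1
        have hjlt := j.2
        refine FM_eq_zero_of_not_injective _ fun hinj => ?_
        have h2 : dn (tv (r + 1)) j 1 j = dn (tv (r + 1)) j 1 ⟨(j : ℕ) - 1, by omega⟩ := by
          rw [dn_self, dn_ne _ _ (by intro h; have := congrArg Fin.val h; simp only at this; omega), tv_lt _ hj',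
            tv_lt _ (by simp only; omega)]
        have h3 := congrArg Fin.val (hinj h2)
        simp only at h3
        omega
      · rfl
    · simp

/-- the beta-set with a hook of length `N` added to the entry `x` -/
def hb (r N : ℕ) (x : Fin 11) : Fin 11 → ℕ := up (tv r) x N

theorem sum_hb (r N : ℕ) (x : Fin 11) : ∑ i, hb r N x i = (N + r) + ∑ i : Fin 11, (i : ℕ) := by
  rw [hb, sum_up, sum_tv]
  omega

theorem inj_hb {r N : ℕ} {x : Fin 11} (hN : 16 ≤ N) (hx : (x : ℕ) = 10 ∨ r + 10 ≠ N + x) :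
    Function.Injective (hb r N x) := by
  have key : ∀ i j : Fin 11, i < j → hb r N x i ≠ hb r N x j := by
    intro i j hij h
    have hij' : (i : ℕ) < j := hij
    have hi := i.2
    have hj := j.2
    unfold hb at h
    by_cases hix : i = x
    · subst hix
      rw [up_self, up_ne _ _ hij.ne', tv_lt _ (by omega)] at h
      by_cases h10 : (j : ℕ) = 10
      · rw [tv_ten _ h10] at h; omega
      · rw [tv_lt _ h10] at h; omega
    · rw [up_ne _ _ hix, tv_lt _ (by omega)] at h
      by_cases hjx : j = x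
      · subst hjx
        rw [up_self] at h
        omega
      · rw [up_ne _ _ hjx] at h
        by_cases h10 : (j : ℕ) = 10
        · rw [tv_ten _ h10] at h; omega
        · rw [tv_lt _ h10] at h; omega
  intro i j h
  by_contra hne
  rcases lt_or_gt_of_ne hne with h1 | h1
  · exact key i j h1 h
  · exact key j i h1 h.symm

theorem FM_hb {r N : ℕ} {x : Fin 11} (hN : 16 ≤ N) (hr : r < N) (hx : (x : ℕ) = 10 ∨ r + 10 ≠ N + x) :
    FM (N ::ₘ Multiset.replicate r 1) (hb r N x) = 1 := by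
  rw [FM_cons, Finset.sum_eq_single x]
  · rw [if_pos (by unfold hb; rw [up_self]; omega)]
    unfold hb
    rw [dn_up_self, FM_tv]
  · intro j _ hj
    split_ifs with h1
    · have hjlt := j.2
      unfold hb at h1 ⊢
      rw [up_ne _ _ hj] at h1
      have h10 : (j : ℕ) = 10 := by
        by_contra h10
        rw [tv_lt _ h10] at h1
        omega
      rw [tv_ten _ h10] at h1
      refine FM_eq_zero_of_not_injective _ fun hinj => ?_
      have hjx : (x : ℕ) ≠ 10 := fun h => hj (Fin.ext (by omega))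
      have hzx : (⟨r + 10 - N, by omega⟩ : Fin 11) ≠ x := by
        intro h
        have := congrArg Fin.val h
        simp only at this
        omega
      have hzj : (⟨r + 10 - N, by omega⟩ : Fin 11) ≠ j := by
        intro h
        have := congrArg Fin.val h
        simp only at this
        omega
      have h2 : dn (up (tv r) x N) j N j = dn (up (tv r) x N) j N ⟨r + 10 - N, by omega⟩ := by
        rw [dn_self, dn_ne _ _ hzj, up_ne _ _ hj, up_ne _ _ hzx, tv_ten _ h10, tv_lt _ (by simp only; omega)]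
      exact hzj (hinj h2).symm
    · rfl
  · simp

/-- the sorted beta-set -/
noncomputable def gb (r N : ℕ) (x : Fin 11) : Fin 11 → ℕ := hb r N x ∘ Tuple.sort (hb r N x)

theorem range_gb (r N : ℕ) (x : Fin 11) : Set.range (gb r N x) = Set.range (hb r N x) :=
  (Tuple.sort (hb r N x)).surjective.range_comp _

theorem gb_strictMono {r N : ℕ} {x : Fin 11} (hN : 16 ≤ N) (hx : (x : ℕ) = 10 ∨ r + 10 ≠ N + x) :
    StrictMono (gb r N x) :=
  (Tuple.monotone_sort (hb r N x)).strictMono_of_injective ((inj_hb hN hx).comp (Tuple.sort (hb r N x)).injective)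

theorem sum_gb (r N : ℕ) (x : Fin 11) : ∑ i, gb r N x i = (N + r) + ∑ i : Fin 11, (i : ℕ) := by
  rw [← sum_hb r N x]
  exact Equiv.sum_comp (Tuple.sort (hb r N x)) (hb r N x)

theorem FM_gb {r N : ℕ} (x : Fin 11) (s : Multiset ℕ) :
    Int.natAbs (FM s (gb r N x)) = Int.natAbs (FM s (hb r N x)) := by
  unfold gb
  rw [FM_alt, smul_eq_mul, Int.natAbs_mul]
  have h1 := sg_mul_self (Tuple.sort (hb r N x))
  have h2 : Int.natAbs (sg (Tuple.sort (hb r N x))) = 1 := by
    exact Int.natAbs_of_isUnit (IsUnit.of_mul_eq_one _ h1)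
  rw [h2, one_mul]

theorem mem_range_hb {r N : ℕ} {x y : Fin 11} (hxy : y ≠ x) (hy : (y : ℕ) ≠ 10) : (y : ℕ) ∈ Set.range (hb r N x) :=
  ⟨y, by unfold hb; rw [up_ne _ _ hxy, tv_lt _ hy]⟩

theorem not_mem_range_hb {r N : ℕ} {y : Fin 11} (hN : 16 ≤ N) (hy : (y : ℕ) ≠ 10) :
    (y : ℕ) ∉ Set.range (hb r N y) := by
  rintro ⟨i, hi⟩
  have hylt := y.2
  unfold hb at hi
  by_cases h : i = y
  · subst h
    rw [up_self] at hi
    omega
  · rw [up_ne _ _ h] at hi
    by_cases h10 : (i : ℕ) = 10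
    · rw [tv_ten _ h10] at hi; omega
    · rw [tv_lt _ h10] at hi
      exact h (Fin.ext hi)

theorem gb_injective {r N : ℕ} (hN : 16 ≤ N) {x y : Fin 11} (h : gb r N x = gb r N y) : x = y := by
  have hr : Set.range (hb r N x) = Set.range (hb r N y) := by rw [← range_gb, ← range_gb, h]
  by_contra hne
  by_cases hy : (y : ℕ) = 10
  · have hx : (x : ℕ) ≠ 10 := fun hx => hne (Fin.ext (by omega))
    exact not_mem_range_hb hN hx (hr ▸ mem_range_hb hne hx)
  · exact not_mem_range_hb hN hy (hr ▸ mem_range_hb (Ne.symm hne) hy)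

theorem oddIrr_gb {r N k : ℕ} {x : Fin 11} (hNk : N = 2 ^ k) (hN : 16 ≤ N) (hr : r < N)
    (hx : (x : ℕ) = 10 ∨ r + 10 ≠ N + x) : OddIrr (ch (Fin (N + r)) (gb r N x)) := by
  have hst := gb_strictMono hN hx
  have hsum := sum_gb r N x
  refine ⟨isIrr_ch hst (by rw [Fintype.card_fin]; exact hsum), ?_⟩
  rw [charDegree_ch hst hsum]
  have hk0 : k ≠ 0 := by
    rintro rfl
    rw [pow_zero] at hNk
    omega
  have h1 := parity hst hsum (k := k) (by omega) hk0
  have h2 : N + r - 2 ^ k = r := by omega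
  rw [h2, ← hNk] at h1
  have h3 := FM_gb (r := r) (N := N) x (N ::ₘ Multiset.replicate r 1)
  rw [FM_hb hN hr hx] at h3
  simp only [Int.natAbs_one] at h3
  omega

theorem sigFix_fin {n : ℕ} (θ : alternatingGroup (Fin n) → ℂ) (h : IsIrrCharacter (alternatingGroup (Fin n)) θ) :
    SigFix θ := sigFix_alt h

theorem good5_large {n : ℕ} (hn : 16 ≤ n) : Good5 (alternatingGroup (Fin n)) := by
  classical
  have : Nontrivial (Fin n) := Fin.nontrivial_iff_two_le.2 (by omega)
  obtain ⟨N, k, r, hNk, hN, hr, rfl⟩ : ∃ N k r : ℕ, N = 2 ^ k ∧ 16 ≤ N ∧ r < N ∧ n = N + r := by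
    refine ⟨2 ^ Nat.log 2 n, Nat.log 2 n, n - 2 ^ Nat.log 2 n, rfl, ?_, ?_, ?_⟩
    · have h1 : 4 ≤ Nat.log 2 n := (Nat.le_log_iff_pow_le (by norm_num) (by omega)).2 (by omega)
      calc 16 = 2 ^ 4 := rfl
        _ ≤ _ := Nat.pow_le_pow_right (by norm_num) h1
    · have h1 := Nat.lt_pow_succ_log_self (b := 2) (by norm_num) n
      rw [pow_succ] at h1
      omega
    · have h1 := Nat.pow_log_le_self 2 (x := n) (by omega)
      omega
  let X := {x : Fin 11 // (x : ℕ) = 10 ∨ r + 10 ≠ N + x}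
  have hX : 9 ≤ Fintype.card X := by
    have h1 : Fintype.card {x : Fin 11 // ¬ ((x : ℕ) = 10 ∨ r + 10 ≠ N + x)} ≤ 1 := by
      rw [Fintype.card_le_one_iff]
      rintro ⟨a, ha⟩ ⟨b, hb⟩
      apply Subtype.ext
      apply Fin.ext
      push Not at ha hb
      simp only
      omega
    have h2 := Fintype.card_subtype_compl (fun x : Fin 11 => (x : ℕ) = 10 ∨ r + 10 ≠ N + x)
    rw [Fintype.card_fin] at h2
    have h3 : Fintype.card X ≤ 11 := by
      have := Fintype.card_subtype_le (fun x : Fin 11 => (x : ℕ) = 10 ∨ r + 10 ≠ N + x)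
      rwa [Fintype.card_fin] at this
    show 9 ≤ Fintype.card {x : Fin 11 // (x : ℕ) = 10 ∨ r + 10 ≠ N + x}
    omega
  refine good5_of_ten (alternatingGroup (Fin (N + r))) alternatingGroup.index_eq_two hX
    (fun x : X => ch (Fin (N + r)) (gb r N x.1)) ?_ (fun x => oddIrr_gb hNk hN hr x.2)
    (fun x g => conj_ch _ g) (fun θ h => sigFix_fin θ h)
  intro x y hxy
  apply Subtype.ext
  exact gb_injective hN (ch_inj (gb_strictMono hN x.2) (gb_strictMono hN y.2)
    (by rw [Fintype.card_fin]; exact sum_gb r N x.1) hxy)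

end Cfsg.Agent.H970.K4
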