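import Cfsg.Agent.H970.K4.AltDegs
import Cfsg.Agent.CharDeep.FrobKernel
import Cfsg.Agent.H742.TwoC

/-!
# Odd degree characters of the alternating groups of small degree (helper970, team K4)

* `exists_other` : column parity: known characters of odd degree with an odd sum at one element are not all;
* `good5_of_triples`, `good5_ten` .. `good5_fifteen`;
* `good5_eight`, `good5_nine`;
* `good5_alt` : `Good5 (alternatingGroup (Fin n))` for `8 ≤ n`.
-/

set_option autoImplicit false

namespace Cfsg.Agent.H970.K4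

open Finset Cfsg Cfsg.Agent.H614 Cfsg.Agent.Characters.Core Cfsg.Agent.H600.AltDeg
open Cfsg.Agent.H601.K4
open scoped ComplexConjugate

universe u

/-- Column parity. -/
theorem exists_other {G : Type u} [Group G] [Finite G] (h2 : 2 ∣ Nat.card G) (s : Finset (G → ℂ))
    (hs : ∀ χ ∈ s, OddIrr χ) (x : G) (n : ℤ) (hn : Odd n) (hsum : ∑ χ ∈ s, χ x = n) : ∃ χ, χ ∉ s ∧ OddIrr χ := by
  classical
  by_contra hcon
  push Not at hcon
  have hall : ∀ χ : G → ℂ, OddIrr χ → χ ∈ s := fun χ hχ => by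
    by_contra h
    exact hcon χ h hχ
  have := Fintype.ofFinite G
  have hfin := finite_irr (G := G)
  have := Fintype.ofFinite (IrrCharacter G)
  obtain ⟨M, hM⟩ := Cfsg.Agent.Blocks.ExistsModular.exists_isPModular Nat.prime_two
  have : Fact (Nat.Prime 2) := ⟨Nat.prime_two⟩
  have hp := Cfsg.Agent.Blocks.Local.isPrime_of_isPModular hM
  have hI : ∀ χ : IrrCharacter G, MemLocalRing M ((χ : G → ℂ) x) := fun χ =>
    Cfsg.Agent.Blocks.Local.memLocalRing_of_isIntegral (Blocks.Central.isIntegral_irr χ.2 _)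
  have h1 := CharDeep.FrobKernel.sum_degree_mul_apply (L := G) x
  have h3 : MemLocalIdeal M (∑ χ : IrrCharacter G, (χ : G → ℂ) 1 * (χ : G → ℂ) x) := by
    rw [h1]
    split_ifs
    · exact (Cfsg.Agent.Blocks.Local.memLocalIdeal_natCast_iff hM _).2 h2
    · have := (Cfsg.Agent.Blocks.Local.memLocalIdeal_natCast_iff hM 0).2 (dvd_zero 2)
      simpa using this
  let O : Finset (IrrCharacter G) := univ.filter fun χ => ¬ 2 ∣ charDegree (χ : G → ℂ)
  have h4 : MemLocalIdeal M (∑ χ ∈ O, (χ : G → ℂ) x) := by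
    rw [← Finset.sum_filter_add_sum_filter_not univ (fun χ : IrrCharacter G => ¬ 2 ∣ charDegree (χ : G → ℂ))] at h3
    have h5 : MemLocalIdeal M (∑ χ ∈ univ.filter (fun χ : IrrCharacter G => ¬ ¬ 2 ∣ charDegree (χ : G → ℂ)),
        (χ : G → ℂ) 1 * (χ : G → ℂ) x) := by
      refine Cfsg.Agent.Blocks.Local.memLocalIdeal_sum fun χ hχ => ?_
      refine Cfsg.Agent.Blocks.Local.memLocalIdeal_mul_right ?_ (hI χ)
      obtain ⟨d, -, hd⟩ := isIrr_apply_one χ.2
      have h6 := (Finset.mem_filter.1 hχ).2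
      rw [not_not, charDegree_eq_of hd] at h6
      rw [hd]
      exact (Cfsg.Agent.Blocks.Local.memLocalIdeal_natCast_iff hM _).2 h6
    have h6 := Cfsg.Agent.Blocks.Local.memLocalIdeal_sub h3 h5
    rw [add_sub_cancel_right] at h6
    refine (Cfsg.Agent.Blocks.Local.memLocalIdeal_iff_of_sub ?_).1 h6
    rw [← Finset.sum_sub_distrib]
    refine Cfsg.Agent.Blocks.Local.memLocalIdeal_sum fun χ hχ => ?_
    obtain ⟨d, -, hd⟩ := isIrr_apply_one χ.2
    have h7 := (Finset.mem_filter.1 hχ).2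
    rw [charDegree_eq_of hd] at h7
    have h8 : (χ : G → ℂ) 1 * (χ : G → ℂ) x - (χ : G → ℂ) x = (((d : ℤ) - 1 : ℤ) : ℂ) * (χ : G → ℂ) x := by
      rw [hd]; push_cast; ring
    rw [h8]
    refine Cfsg.Agent.Blocks.Local.memLocalIdeal_mul_right ?_ (hI χ)
    exact (Cfsg.Agent.Blocks.Local.memLocalIdeal_intCast_iff hM _).2 (by push_cast; omega)
  have h9 : ∑ χ ∈ O, (χ : G → ℂ) x = ∑ χ ∈ s, χ x := by
    have h10 : s = O.image (fun χ : IrrCharacter G => (χ : G → ℂ)) := by
      ext χ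
      rw [Finset.mem_image]
      constructor
      · intro h
        exact ⟨⟨χ, (hs χ h).1⟩, Finset.mem_filter.2 ⟨Finset.mem_univ _, (hs χ h).2⟩, rfl⟩
      · rintro ⟨ψ, hψ, rfl⟩
        exact hall _ ⟨ψ.2, (Finset.mem_filter.1 hψ).2⟩
    rw [h10, Finset.sum_image (fun a _ b _ h => Subtype.ext h)]
  rw [h9, hsum] at h4
  have h11 := (Cfsg.Agent.Blocks.Local.memLocalIdeal_intCast_iff hM _).1 h4
  obtain ⟨k, hk⟩ := hn
  push_cast at h11
  omega

/-! ### three rows -/

theorem FM_three {n a b c d : ℕ} (hab : a < b) (hbc : b < c) (hs : a + b + c = n + 3)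
    (hd : d * (a.factorial * b.factorial * c.factorial) = n.factorial * ((b - a) * (c - a) * (c - b))) :
    FM (Multiset.replicate n 1) ![a, b, c] = d := by
  have h := FM_ones_formula n ![a, b, c] (sum_three hs)
  rw [Fin.prod_univ_three] at h
  have i0 : Finset.Ioi (0 : Fin 3) = {1, 2} := by decide
  have i1 : Finset.Ioi (1 : Fin 3) = {2} := by decide
  have i2 : Finset.Ioi (2 : Fin 3) = ∅ := by decide
  rw [Fin.prod_univ_three, i0, i1, i2, Finset.prod_pair (by decide), Finset.prod_singleton, Finset.prod_empty,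
    mul_one] at h
  simp only [Matrix.cons_val_zero, Matrix.cons_val_one, Matrix.cons_val_two, Matrix.head_cons,
    Matrix.tail_cons] at h
  have hd' : (d : ℤ) * ((a.factorial : ℤ) * b.factorial * c.factorial) =
      n.factorial * (((b : ℤ) - a) * (c - a) * (c - b)) := by
    have e1 : ((b - a : ℕ) : ℤ) = (b : ℤ) - a := by omega
    have e2 : ((c - a : ℕ) : ℤ) = (c : ℤ) - a := by omega
    have e3 : ((c - b : ℕ) : ℤ) = (c : ℤ) - b := by omega
    rw [← e1, ← e2, ← e3]
    exact_mod_cast hd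
  have hF : ((a.factorial : ℤ) * b.factorial * c.factorial) ≠ 0 := by positivity
  apply mul_right_cancel₀ hF
  rw [h, hd']

theorem strictMono_three {a b c : ℕ} (hab : a < b) (hbc : b < c) : StrictMono ![a, b, c] := by
  intro i j hij
  fin_cases i <;> fin_cases j <;> simp_all
  omega

theorem good_alt {n : ℕ} (hn : 5 ≤ n) {θ : alternatingGroup (Fin n) → ℂ} (h : OddIrr θ) : Good θ := by
  refine ⟨h, sigFix_fin θ h.1, fun M hM hi => ?_⟩
  exact (H742.TwoC.twoC_alt hn).mem_principalBlock hM ⟨θ, hi⟩ h.2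

theorem good5_of_triples {n : ℕ} (hn : 5 ≤ n) (t : Fin 5 → ℕ × ℕ × ℕ × ℕ)
    (h : ∀ i, (t i).1 < (t i).2.1 ∧ (t i).2.1 < (t i).2.2.1 ∧ (t i).1 + (t i).2.1 + (t i).2.2.1 = n + 3 ∧
      (t i).2.2.2 * ((t i).1.factorial * (t i).2.1.factorial * (t i).2.2.1.factorial) =
        n.factorial * (((t i).2.1 - (t i).1) * ((t i).2.2.1 - (t i).1) * ((t i).2.2.1 - (t i).2.1)) ∧
      (t i).2.2.2 % 2 = 1)
    (hinj : ∀ i j, (t i).2.2.2 = (t j).2.2.2 → i = j) : Good5 (alternatingGroup (Fin n)) := by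
  classical
  have : Nontrivial (Fin n) := Fin.nontrivial_iff_two_le.2 (by omega)
  let χ : Fin 5 → Equiv.Perm (Fin n) → ℂ := fun i => ch (Fin n) ![(t i).1, (t i).2.1, (t i).2.2.1]
  have hdeg : ∀ i, χ i 1 = ((t i).2.2.2 : ℂ) := fun i => by
    obtain ⟨h1, h2, h3, h4, -⟩ := h i
    show ch (Fin n) ![(t i).1, (t i).2.1, (t i).2.2.1] 1 = _
    rw [ch_apply, ty_one, Fintype.card_fin, FM_three h1 h2 h3 h4]
    exact Int.cast_natCast _
  have hodd : ∀ i, OddIrr (χ i) := fun i => by
    obtain ⟨h1, h2, h3, h4, h5⟩ := h i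
    refine ⟨isIrr_ch (strictMono_three h1 h2) (by rw [Fintype.card_fin]; exact sum_three h3), ?_⟩
    rw [charDegree_eq_of (hdeg i)]
    omega
  refine ⟨fun i a => χ i a, fun i j hij => ?_, fun i => good_alt hn (res _ alternatingGroup.index_eq_two (hodd i))⟩
  have h1 := congrFun hij 1
  simp only [OneMemClass.coe_one, hdeg] at h1
  exact hinj i j (by exact_mod_cast h1)

theorem good5_ten : Good5 (alternatingGroup (Fin 10)) :=
  good5_of_triples (by norm_num) ![(0, 1, 12, 1), (0, 2, 11, 9), (0, 3, 10, 35), (0, 4, 9, 75), (2, 3, 8, 225)]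
    (by decide +kernel) (by decide +kernel)

theorem good5_eleven : Good5 (alternatingGroup (Fin 11)) :=
  good5_of_triples (by norm_num) ![(0, 1, 13, 1), (1, 2, 11, 45), (0, 5, 9, 165), (1, 3, 10, 231), (2, 3, 9, 385)]
    (by decide +kernel) (by decide +kernel)

theorem good5_twelve : Good5 (alternatingGroup (Fin 12)) :=
  good5_of_triples (by norm_num) ![(0, 1, 14, 1), (0, 2, 13, 11), (1, 2, 12, 55), (0, 5, 10, 275), (0, 6, 9, 297)]
    (by decide +kernel) (by decide +kernel)

theorem good5_thirteen : Good5 (alternatingGroup (Fin 13)) :=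
  good5_of_triples (by norm_num) ![(0, 1, 15, 1), (0, 3, 13, 65), (0, 5, 11, 429), (1, 7, 8, 1287), (1, 4, 11, 1365)]
    (by decide +kernel) (by decide +kernel)

theorem good5_fourteen : Good5 (alternatingGroup (Fin 14)) :=
  good5_of_triples (by norm_num) ![(0, 1, 16, 1), (0, 2, 15, 13), (0, 3, 14, 77), (0, 4, 13, 273), (0, 8, 9, 429)]
    (by decide +kernel) (by decide +kernel)

theorem good5_fifteen : Good5 (alternatingGroup (Fin 15)) :=
  good5_of_triples (by norm_num) ![(0, 1, 17, 1), (1, 2, 15, 91), (1, 3, 14, 715), (2, 3, 13, 1925), (1, 4, 13, 2835)]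
    (by decide +kernel) (by decide +kernel)

/-! ### `n = 8` and `n = 9` -/

theorem FM_four {n a b c e d : ℕ} (hab : a < b) (hbc : b < c) (hce : c < e) (hs : a + b + c + e = n + 6)
    (hd : d * (a.factorial * b.factorial * c.factorial * e.factorial) =
      n.factorial * ((b - a) * (c - a) * (e - a) * (c - b) * (e - b) * (e - c))) :
    FM (Multiset.replicate n 1) ![a, b, c, e] = d := by
  have hs' : ∑ i, ![a, b, c, e] i = n + ∑ i : Fin 4, (i : ℕ) := by
    simp [Fin.sum_univ_four]; omega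
  have h := FM_ones_formula n ![a, b, c, e] hs'
  rw [Fin.prod_univ_four] at h
  have i0 : Finset.Ioi (0 : Fin 4) = {1, 2, 3} := by decide
  have i1 : Finset.Ioi (1 : Fin 4) = {2, 3} := by decide
  have i2 : Finset.Ioi (2 : Fin 4) = {3} := by decide
  have i3 : Finset.Ioi (3 : Fin 4) = ∅ := by decide
  rw [Fin.prod_univ_four, i0, i1, i2, i3, Finset.prod_insert (by decide), Finset.prod_pair (by decide),
    Finset.prod_pair (by decide), Finset.prod_singleton, Finset.prod_empty, mul_one] at h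
  simp only [Matrix.cons_val_zero, Matrix.cons_val_one, Matrix.cons_val_two, Matrix.head_cons,
    Matrix.tail_cons, Matrix.cons_val] at h
  have hd' : (d : ℤ) * ((a.factorial : ℤ) * b.factorial * c.factorial * e.factorial) =
      n.factorial * (((b : ℤ) - a) * (((c : ℤ) - a) * (e - a)) * (((c : ℤ) - b) * (e - b)) * (e - c)) := by
    have e1 : ((b - a : ℕ) : ℤ) = (b : ℤ) - a := by omega
    have e2 : ((c - a : ℕ) : ℤ) = (c : ℤ) - a := by omega
    have e3 : ((c - b : ℕ) : ℤ) = (c : ℤ) - b := by omega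
    have e4 : ((e - a : ℕ) : ℤ) = (e : ℤ) - a := by omega
    have e5 : ((e - b : ℕ) : ℤ) = (e : ℤ) - b := by omega
    have e6 : ((e - c : ℕ) : ℤ) = (e : ℤ) - c := by omega
    rw [← e1, ← e2, ← e3, ← e4, ← e5, ← e6]
    have h3 : ((d * (a.factorial * b.factorial * c.factorial * e.factorial) : ℕ) : ℤ) =
      ((n.factorial * ((b - a) * (c - a) * (e - a) * (c - b) * (e - b) * (e - c)) : ℕ) : ℤ) := by rw [hd]
    push_cast at h3 ⊢
    rw [h3]
    ring
  have hF : ((a.factorial : ℤ) * b.factorial * c.factorial * e.factorial) ≠ 0 := by positivity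
  apply mul_right_cancel₀ hF
  rw [h, hd']

theorem strictMono_four {a b c e : ℕ} (hab : a < b) (hbc : b < c) (hce : c < e) : StrictMono ![a, b, c, e] := by
  intro i j hij
  fin_cases i <;> fin_cases j <;> simp_all <;> omega

/-- Four characters with four rows with different odd degrees and an odd sum at the class of type `ν`. -/
theorem good5_of_fours {n : ℕ} (hn : 5 ≤ n) (t : Fin 4 → ℕ × ℕ × ℕ × ℕ × ℕ)
    (h : ∀ i, (t i).1 < (t i).2.1 ∧ (t i).2.1 < (t i).2.2.1 ∧ (t i).2.2.1 < (t i).2.2.2.1 ∧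
      (t i).1 + (t i).2.1 + (t i).2.2.1 + (t i).2.2.2.1 = n + 6 ∧
      (t i).2.2.2.2 * ((t i).1.factorial * (t i).2.1.factorial * (t i).2.2.1.factorial * (t i).2.2.2.1.factorial) =
        n.factorial * (((t i).2.1 - (t i).1) * ((t i).2.2.1 - (t i).1) * ((t i).2.2.2.1 - (t i).1) *
          ((t i).2.2.1 - (t i).2.1) * ((t i).2.2.2.1 - (t i).2.1) * ((t i).2.2.2.1 - (t i).2.2.1)) ∧
      (t i).2.2.2.2 % 2 = 1)
    (hinj : ∀ i j, (t i).2.2.2.2 = (t j).2.2.2.2 → i = j) {L : ℕ} (hL : Odd L) (h2L : 2 ≤ L) (hLn : L ≤ n)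
    (hsum : ∑ i, FM (L ::ₘ Multiset.replicate (n - L) 1) ![(t i).1, (t i).2.1, (t i).2.2.1, (t i).2.2.2.1] = 1) :
    Good5 (alternatingGroup (Fin n)) := by
  classical
  have : Nontrivial (Fin n) := Fin.nontrivial_iff_two_le.2 (by omega)
  let χ : Fin 4 → Equiv.Perm (Fin n) → ℂ := fun i =>
    ch (Fin n) ![(t i).1, (t i).2.1, (t i).2.2.1, (t i).2.2.2.1]
  have hdeg : ∀ i, χ i 1 = ((t i).2.2.2.2 : ℂ) := fun i => by
    obtain ⟨h1, h2, h3, h4, h5, -⟩ := h i
    show ch (Fin n) ![(t i).1, (t i).2.1, (t i).2.2.1, (t i).2.2.2.1] 1 = _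
    rw [ch_apply, ty_one, Fintype.card_fin, FM_four h1 h2 h3 h4 h5]
    exact Int.cast_natCast _
  have hodd : ∀ i, OddIrr (χ i) := fun i => by
    obtain ⟨h1, h2, h3, h4, h5, h6⟩ := h i
    refine ⟨isIrr_ch (strictMono_four h1 h2 h3) (by rw [Fintype.card_fin]; simp [Fin.sum_univ_four]; omega), ?_⟩
    rw [charDegree_eq_of (hdeg i)]
    omega
  let θ : Fin 4 → alternatingGroup (Fin n) → ℂ := fun i a => χ i a
  have hθ : ∀ i, OddIrr (θ i) := fun i => res _ alternatingGroup.index_eq_two (hodd i)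
  have hθinj : Function.Injective θ := fun i j hij => by
    have h1 := congrFun hij 1
    simp only [θ, OneMemClass.coe_one, hdeg] at h1
    exact hinj i j (by exact_mod_cast h1)
  obtain ⟨g, hg⟩ := (Equiv.Perm.exists_with_cycleType_iff (α := Fin n) (m := {L})).2
    ⟨by rw [Fintype.card_fin]; simpa using hLn, by simpa using h2L⟩
  have hgA : g ∈ alternatingGroup (Fin n) := by
    rw [Equiv.Perm.mem_alternatingGroup, Equiv.Perm.sign_of_cycleType, hg]
    obtain ⟨k, hk⟩ := hL
    simp only [Multiset.sum_singleton, Multiset.card_singleton]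
    exact Even.neg_one_pow ⟨k + 1, by omega⟩
  have hty : ty g = L ::ₘ Multiset.replicate (n - L) 1 := by
    rw [ty_eq, hg, Fintype.card_fin]
    simp
  have hcard : 2 ∣ Nat.card (alternatingGroup (Fin n)) := by
    have h1 := nat_card_alternatingGroup (α := Fin n)
    rw [h1, Nat.card_fin]
    have h2 : 4 ∣ n.factorial := Nat.dvd_factorial (by norm_num) (by omega)
    omega
  obtain ⟨ψ, hψ, hψ2⟩ := exists_other hcard (univ.image θ) (by
    intro χ' h'
    obtain ⟨i, -, rfl⟩ := Finset.mem_image.1 h'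
    exact hθ i) ⟨g, hgA⟩ 1 odd_one (by
    rw [Finset.sum_image (fun a _ b _ h => hθinj h)]
    have h3 : ∀ i, θ i ⟨g, hgA⟩ = (FM (L ::ₘ Multiset.replicate (n - L) 1)
        ![(t i).1, (t i).2.1, (t i).2.2.1, (t i).2.2.2.1] : ℂ) := fun i => by
      show ch (Fin n) _ g = _
      rw [ch_apply, hty]
    rw [Finset.sum_congr rfl fun i _ => h3 i]
    exact_mod_cast hsum)
  refine good5_of_finset (insert ψ (univ.image θ)) ?_ ?_
  · rw [Finset.card_insert_of_notMem hψ, Finset.card_image_of_injective _ hθinj, Finset.card_univ, Fintype.card_fin]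
  · intro χ' h'
    rcases Finset.mem_insert.1 h' with rfl | h'
    · exact good_alt hn hψ2
    · obtain ⟨i, -, rfl⟩ := Finset.mem_image.1 h'
      exact good_alt hn (hθ i)

theorem good5_eight : Good5 (alternatingGroup (Fin 8)) :=
  good5_of_fours (by norm_num) ![(0, 1, 2, 11, 1), (0, 1, 3, 10, 7), (0, 2, 3, 9, 21), (1, 2, 3, 8, 35)]
    (by decide +kernel) (by decide +kernel) (L := 7) (by decide) (by norm_num) (by norm_num) (by decide +kernel)

theorem good5_nine : Good5 (alternatingGroup (Fin 9)) :=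
  good5_of_fours (by norm_num) ![(0, 1, 2, 12, 1), (0, 1, 4, 10, 27), (0, 2, 4, 9, 105), (1, 2, 4, 8, 189)]
    (by decide +kernel) (by decide +kernel) (L := 9) (by decide) (by norm_num) (by norm_num) (by decide +kernel)

/-- **Row (A) of S4547 and S4947 for the alternating groups.** -/
theorem good5_alt {n : ℕ} (hn : 8 ≤ n) : Good5 (alternatingGroup (Fin n)) := by
  by_cases h : 16 ≤ n
  · exact good5_large h
  · have h1 : n = 8 ∨ n = 9 ∨ n = 10 ∨ n = 11 ∨ n = 12 ∨ n = 13 ∨ n = 14 ∨ n = 15 := by omega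
    rcases h1 with rfl | rfl | rfl | rfl | rfl | rfl | rfl | rfl
    · exact good5_eight
    · exact good5_nine
    · exact good5_ten
    · exact good5_eleven
    · exact good5_twelve
    · exact good5_thirteen
    · exact good5_fourteen
    · exact good5_fifteen

end Cfsg.Agent.H970.K4
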