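import Cfsg.Agent.H600.AltBase
import Cfsg.Agent.H601.K4.Defs
import Cfsg.Agent.H601.OddDeg.Block
import Mathlib.GroupTheory.SpecificGroups.Alternating.Centralizer

/-!
# Odd degree characters of alternating groups: tools (helper970, team K4)

* `sigFix_alt` : every irreducible character of an alternating group is `SigFix`;
* `res` : an irreducible character of `S_n` of odd degree restricts to an irreducible character of odd degree of `A_n`;
* `fiber` : at most two irreducible characters have the same irreducible restriction to a subgroup of index two;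
* `good_ch` : the restriction to `A_n` of the character with beta-set `β`, if its degree is odd, is `Good`;
* `good5_of_finset` : five `Good` characters.
-/

set_option autoImplicit false

namespace Cfsg.Agent.H970.K4

open Finset Cfsg Cfsg.Agent.H614 Cfsg.Agent.Characters.Core Cfsg.Agent.H600.AltDeg
open Cfsg.Agent.H601.K4
open scoped ComplexConjugate

universe u

section perm

variable {α : Type u} [Fintype α] [DecidableEq α]

theorem cycleType_pow_coprime (σ : Equiv.Perm α) {k : ℕ} (h : k.Coprime (orderOf σ)) :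
    (σ ^ k).cycleType = σ.cycleType := by
  induction σ using Equiv.Perm.cycle_induction_on with
  | base_one => simp
  | base_cycles σ hσ =>
    have h1 : (σ ^ k).IsCycle := (hσ.pow_iff).2 h
    rw [h1.cycleType, hσ.cycleType, Equiv.Perm.support_pow_coprime h]
  | induction_disjoint σ τ hd hσ ih1 ih2 =>
    rw [hd.orderOf] at h
    have h1 : k.Coprime (orderOf σ) := Nat.Coprime.coprime_dvd_right (Nat.dvd_lcm_left _ _) h
    have h2 : k.Coprime (orderOf τ) := Nat.Coprime.coprime_dvd_right (Nat.dvd_lcm_right _ _) h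
    rw [hd.commute.mul_pow, (hd.pow_disjoint_pow k k).cycleType_mul, ih1 h1, ih2 h2, hd.cycleType_mul]

theorem isConj_pow_coprime (σ : Equiv.Perm α) {k : ℕ} (h : k.Coprime (orderOf σ)) : IsConj σ (σ ^ k) :=
  Equiv.Perm.isConj_iff_cycleType_eq.2 (cycleType_pow_coprime σ h).symm

/-- The exponents of `SigFix` are prime to the orders of the elements. -/
theorem coprime_of_sig {S : Type*} [Group S] [Finite S] {k : ℕ}
    (h2 : ∀ g : S, (∃ j : ℕ, orderOf g = 2 ^ j) → g ^ k = g ^ 3) (h3 : ∀ g : S, Odd (orderOf g) → g ^ k = g) (g : S) :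
    k.Coprime (orderOf g) := by
  rw [Nat.coprime_comm, Nat.coprime_iff_gcd_eq_one]
  by_contra hne
  obtain ⟨p, hp, hpd⟩ := Nat.exists_prime_and_dvd hne
  have hpg : p ∣ orderOf g := hpd.trans (Nat.gcd_dvd_left _ _)
  have hpk : p ∣ k := hpd.trans (Nat.gcd_dvd_right _ _)
  obtain ⟨y, hy⟩ : ∃ y : S, orderOf y = p := ⟨g ^ (orderOf g / p), by
    have h0 : 0 < orderOf g := orderOf_pos g
    exact orderOf_pow_orderOf_div h0.ne' hpg⟩
  have hyk : y ^ k = 1 := by
    rw [← orderOf_dvd_iff_pow_eq_one, hy]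
    exact hpk
  rcases hp.eq_two_or_odd' with rfl | hodd
  · have h4 := h2 y ⟨1, by rw [hy, pow_one]⟩
    rw [hyk] at h4
    have h5 : orderOf y ∣ 3 := orderOf_dvd_of_pow_eq_one h4.symm
    rw [hy] at h5
    omega
  · have h4 := h3 y (by rw [hy]; exact hodd)
    rw [hyk] at h4
    rw [← h4, orderOf_one] at hy
    exact hp.one_lt.ne hy

/-- An even permutation of even order commutes with an odd permutation. -/
theorem exists_odd_comm {g : Equiv.Perm α} (h : ¬ Odd (orderOf g)) :
    ∃ t : Equiv.Perm α, t ∉ alternatingGroup α ∧ t * g = g * t := by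
  by_contra hcon
  push Not at hcon
  apply h
  have hle : Subgroup.centralizer {g} ≤ alternatingGroup α := by
    intro t ht
    by_contra h1
    exact hcon t h1 ((Subgroup.mem_centralizer_iff.1 ht g rfl).symm)
  have h1 := (Equiv.Perm.centralizer_le_alternating_iff.1 hle).1
  rw [← Equiv.Perm.lcm_cycleType]
  have h2 : ∀ s : Multiset ℕ, (∀ c ∈ s, Odd c) → Odd s.lcm := by
    intro s
    induction s using Multiset.induction_on with
    | empty => intro _; simp
    | cons a s ih =>
      intro hs
      rw [Multiset.lcm_cons]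
      have ha : Odd a := hs a (Multiset.mem_cons_self a s)
      have hb : Odd s.lcm := ih fun c hc => hs c (Multiset.mem_cons_of_mem hc)
      have h5 : GCDMonoid.lcm a s.lcm ∣ a * s.lcm := lcm_dvd (Dvd.intro _ rfl) (Dvd.intro_left _ rfl)
      exact Odd.of_dvd_nat (ha.mul hb) h5
  exact h2 _ h1

/-- Every irreducible character of an alternating group is `SigFix`. -/
theorem sigFix_alt {θ : alternatingGroup α → ℂ} (hθ : IsIrrCharacter (alternatingGroup α) θ) : SigFix θ := by
  intro k h2 h3 g
  by_cases ho : Odd (orderOf g)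
  · rw [h3 g ho]
  · have hk := coprime_of_sig h2 h3 g
    have ho' : orderOf (g : Equiv.Perm α) = orderOf g := Subgroup.orderOf_coe g
    obtain ⟨t, ht, htg⟩ := exists_odd_comm (g := (g : Equiv.Perm α)) (by rw [ho']; exact ho)
    obtain ⟨s, hs⟩ := isConj_iff.1 (isConj_pow_coprime (g : Equiv.Perm α) (k := k) (by rw [ho']; exact hk))
    obtain ⟨s', hs', hs2⟩ : ∃ s' : alternatingGroup α, (s' : Equiv.Perm α) * g * (s' : Equiv.Perm α)⁻¹ = (g : Equiv.Perm α) ^ k ∧ True := by
      by_cases h : s ∈ alternatingGroup α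
      · exact ⟨⟨s, h⟩, hs, trivial⟩
      · refine ⟨⟨s * t, ?_⟩, ?_, trivial⟩
        · have h1 : Equiv.Perm.sign s = -1 := by
            rcases Int.units_eq_one_or (Equiv.Perm.sign s) with h5 | h5
            · exact absurd (Equiv.Perm.mem_alternatingGroup.2 h5) h
            · exact h5
          have h2 : Equiv.Perm.sign t = -1 := by
            rcases Int.units_eq_one_or (Equiv.Perm.sign t) with h5 | h5
            · exact absurd (Equiv.Perm.mem_alternatingGroup.2 h5) ht
            · exact h5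
          rw [Equiv.Perm.mem_alternatingGroup, Equiv.Perm.sign_mul, h1, h2]
          rfl
        · show s * t * g * (s * t)⁻¹ = _
          rw [mul_inv_rev, mul_assoc s t, htg, ← hs]
          group
    have h5 : s' * g * s'⁻¹ = g ^ k := by
      apply Subtype.ext
      simpa using hs'
    rw [← h5]
    exact isIrr_isClassFunction hθ g s'

end perm

section restrict

variable {G : Type u} [Group G] [Finite G]

omit [Finite G] in
theorem charDegree_eq_of {χ : G → ℂ} {n : ℕ} (h : χ 1 = n) : charDegree χ = n := by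
  rw [charDegree, h]; simp

theorem res (N : Subgroup G) [N.Normal] (hN : N.index = 2) {χ : G → ℂ} (h : OddIrr χ) :
    OddIrr (fun n : N => χ n) := by
  classical
  have := Fintype.ofFinite G
  have := Fintype.ofFinite N
  obtain ⟨hχ, hodd⟩ := h
  obtain ⟨θ, hθ⟩ := exists_constituent N hχ
  rcases restrict_two N hN hχ θ.2 hθ with h1 | ⟨h1, -⟩
  · have h2 : (fun n : N => χ n) = (θ : N → ℂ) := funext h1
    rw [h2]
    refine ⟨θ.2, ?_⟩
    rw [← h2]
    exact hodd
  · exfalso
    obtain ⟨n, -, hn⟩ := isIrr_apply_one θ.2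
    apply hodd
    have h3 : χ 1 = ((2 * n : ℕ) : ℂ) := by rw [h1, hn]; push_cast; rfl
    rw [charDegree_eq_of h3]
    exact Dvd.intro n rfl

/-- Two different real irreducible characters with the same irreducible restriction are opposite outside of the
subgroup of index two. -/
theorem opposite (N : Subgroup G) [N.Normal] (hN : N.index = 2) {χ ψ : G → ℂ} (hχ : IsIrrCharacter G χ)
    (hψ : IsIrrCharacter G ψ) (hne : χ ≠ ψ) (heq : ∀ n : N, χ n = ψ n)
    (hirr : IsIrrCharacter N (fun n : N => χ n)) (rχ : ∀ x, conj (χ x) = χ x) (rψ : ∀ x, conj (ψ x) = ψ x) {g : G}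
    (hg : g ∉ N) : ψ g = - χ g := by
  classical
  have := Fintype.ofFinite G
  have := Fintype.ofFinite N
  have hG : (Nat.card G : ℂ) ≠ 0 := card_ne_zero_complex
  have hNc : (Nat.card N : ℂ) ≠ 0 := card_ne_zero_complex
  have hcard : (Nat.card G : ℂ) = Nat.card N * 2 := by
    rw [← Subgroup.card_mul_index N, hN]; push_cast; rfl
  have e1 := classInner_irr_self hχ
  have e2 := classInner_irr_self hψ
  have e3 := classInner_irr_ne hχ hψ hne
  have e4 := classInner_irr_self hirr
  rw [classInner_def] at e1 e2 e3 e4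
  simp only [rχ, rψ] at e1 e2 e3 e4
  have f1 : ∑ g : G, χ g * χ g = Nat.card G := ((inv_mul_eq_one₀ hG).1 e1).symm
  have f2 : ∑ g : G, ψ g * ψ g = Nat.card G := ((inv_mul_eq_one₀ hG).1 e2).symm
  have f3 : ∑ g : G, χ g * ψ g = 0 := by
    rcases mul_eq_zero.1 e3 with h | h
    · exact absurd h (inv_ne_zero hG)
    · exact h
  have f4 : ∑ n : N, χ n * χ n = Nat.card N := ((inv_mul_eq_one₀ hNc).1 e4).symm
  have s1 : ∀ f : G → ℂ, ∑ g ∈ univ.filter (fun g => g ∈ N), f g = ∑ n : N, f n := fun f =>
    Finset.sum_subtype _ (by simp) f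
  have t1 := Finset.sum_filter_add_sum_filter_not univ (fun g => g ∈ N) (fun g => χ g * χ g)
  have t2 := Finset.sum_filter_add_sum_filter_not univ (fun g => g ∈ N) (fun g => ψ g * ψ g)
  have t3 := Finset.sum_filter_add_sum_filter_not univ (fun g => g ∈ N) (fun g => χ g * ψ g)
  rw [s1] at t1 t2 t3
  have u2 : ∑ n : N, ψ n * ψ n = Nat.card N := by
    rw [← f4]; exact Finset.sum_congr rfl fun n _ => by rw [heq]
  have u3 : ∑ n : N, χ n * ψ n = Nat.card N := by
    rw [← f4]; exact Finset.sum_congr rfl fun n _ => by rw [heq]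
  rw [f4, f1] at t1
  rw [u2, f2] at t2
  rw [u3, f3] at t3
  have h6 : ∑ g ∈ univ.filter (fun g => ¬ g ∈ N), (χ g + ψ g) * (χ g + ψ g) = 0 := by
    have h7 : ∑ g ∈ univ.filter (fun g => ¬ g ∈ N), (χ g + ψ g) * (χ g + ψ g) =
        ∑ g ∈ univ.filter (fun g => ¬ g ∈ N), χ g * χ g + ∑ g ∈ univ.filter (fun g => ¬ g ∈ N), ψ g * ψ g +
          2 * ∑ g ∈ univ.filter (fun g => ¬ g ∈ N), χ g * ψ g := by
      rw [Finset.mul_sum, ← Finset.sum_add_distrib, ← Finset.sum_add_distrib]
      exact Finset.sum_congr rfl fun g _ => by ring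
    rw [h7]
    linear_combination t1 + t2 + 2 * t3 + 2 * hcard
  have h7 : ∑ g ∈ univ.filter (fun g => ¬ g ∈ N), Complex.normSq (χ g + ψ g) = 0 := by
    have h8 := congrArg Complex.re h6
    rw [Complex.re_sum] at h8
    rw [← Complex.zero_re, ← h8]
    refine Finset.sum_congr rfl fun g _ => ?_
    have h9 : conj (χ g + ψ g) = χ g + ψ g := by rw [map_add, rχ, rψ]
    rw [← Complex.ofReal_re (Complex.normSq (χ g + ψ g)), ← Complex.mul_conj, h9]
  have h8 := (Finset.sum_eq_zero_iff_of_nonneg (fun g _ => Complex.normSq_nonneg _)).mp h7 g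
    (by simp [hg])
  have h9 := Complex.normSq_eq_zero.mp h8
  linear_combination h9

/-- At most two real irreducible characters of odd degree have the same restriction. -/
theorem fiber (N : Subgroup G) [N.Normal] (hN : N.index = 2) {χ₁ χ₂ χ₃ : G → ℂ} (h1 : OddIrr χ₁) (h2 : OddIrr χ₂)
    (h3 : OddIrr χ₃) (h12 : χ₁ ≠ χ₂) (h13 : χ₁ ≠ χ₃) (r1 : ∀ x, conj (χ₁ x) = χ₁ x) (r2 : ∀ x, conj (χ₂ x) = χ₂ x)
    (r3 : ∀ x, conj (χ₃ x) = χ₃ x) (e12 : (fun n : N => χ₁ n) = fun n : N => χ₂ n)
    (e13 : (fun n : N => χ₁ n) = fun n : N => χ₃ n) : χ₂ = χ₃ := by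
  funext g
  by_cases hg : g ∈ N
  · have a := congrFun e12 ⟨g, hg⟩
    have b := congrFun e13 ⟨g, hg⟩
    simp only at a b
    rw [← a, ← b]
  · rw [opposite N hN h1.1 h2.1 h12 (congrFun e12) (res N hN h1).1 r1 r2 hg,
      opposite N hN h1.1 h3.1 h13 (congrFun e13) (res N hN h1).1 r1 r3 hg]

theorem good5_of_finset {S : Type u} [Group S] (s : Finset (S → ℂ)) (hs : 5 ≤ s.card) (h : ∀ χ ∈ s, Good χ) :
    Good5 S := by
  classical
  obtain ⟨t, ht, hc⟩ := Finset.exists_subset_card_eq hs
  have e : Fin 5 ≃ t := (Fintype.equivFinOfCardEq (by rw [Fintype.card_coe, hc])).symm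
  exact ⟨fun i => (e i : S → ℂ), fun i j hij => e.injective (Subtype.ext hij), fun i => h _ (ht (e i).2)⟩

/-- Ten real irreducible characters of odd degree give five restrictions. -/
theorem good5_of_ten (N : Subgroup G) [N.Normal] (hN : N.index = 2) {ι : Type*} [Fintype ι] (hι : 9 ≤ Fintype.card ι)
    (χ : ι → G → ℂ) (hinj : Function.Injective χ) (h : ∀ i, OddIrr (χ i)) (hr : ∀ i x, conj (χ i x) = χ i x)
    (hsig : ∀ θ : N → ℂ, IsIrrCharacter N θ → SigFix θ) : Good5 N := by
  classical
  have := Fintype.ofFinite G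
  let f : ι → N → ℂ := fun i n => χ i n
  refine good5_of_finset (Finset.univ.image f) ?_ ?_
  · have h1 : (Finset.univ : Finset ι).card ≤ 2 * (Finset.univ.image f).card := by
      refine Finset.card_le_mul_card_image (Finset.univ : Finset ι) 2 ?_
      intro b _
      by_contra hcon
      push Not at hcon
      obtain ⟨i, hi, j, hj, k, hk, hij, hik, hjk⟩ := Finset.two_lt_card.1 hcon
      simp only [Finset.mem_filter, Finset.mem_univ, true_and] at hi hj hk
      exact hjk (hinj (fiber N hN (h i) (h j) (h k) (fun e => hij (hinj e)) (fun e => hik (hinj e)) (hr i) (hr j)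
        (hr k) (hi.trans hj.symm) (hi.trans hk.symm)))
    rw [Finset.card_univ] at h1
    omega
  · intro θ hθ
    obtain ⟨i, -, rfl⟩ := Finset.mem_image.1 hθ
    have h1 : OddIrr (f i) := res N hN (h i)
    exact ⟨h1, hsig _ h1.1, InB0.of_real h1 fun x => Complex.conj_eq_iff_im.1 (hr i x)⟩

end restrict

end Cfsg.Agent.H970.K4
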